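import Mathlib
import Cfsg.Agent.Lib.DL9.Col
import Cfsg.Agent.Lib.Perm.MultiTransHuppert

/-!
A vector whose stabilizer has derived length at most nine.
-/

set_option autoImplicit false
set_option linter.unusedSectionVars false

namespace CfsgLib.DL9

open Subgroup CfsgLib.Base Module
open scoped Pointwise commutatorElement IsMulCommutative

universe u

theorem num_big {k q : ℕ} (hk : 64 ≤ k) (hq : 3 ≤ q) : 5 * (q ^ 2 * (4 * k + 4) ^ 8) < q ^ k := by
  obtain ⟨j, rfl⟩ := Nat.exists_eq_add_of_le' hk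
  have h1 : 5 * (4 * (j + 64) + 4) ^ 8 < 3 ^ (j + 62) := by
    induction j with
    | zero => norm_num
    | succ j ih =>
      have := Nat.pow_le_pow_left
        (show 65 * (4 * (j + 1 + 64) + 4) ≤ 66 * (4 * (j + 64) + 4) by omega) 8
      have := ih (by omega)
      rw [mul_pow, mul_pow] at *
      rw [show j + 1 + 62 = j + 62 + 1 by omega, pow_succ 3]
      omega
  rw [mul_left_comm, show j + 64 = 2 + (j + 62) by omega, pow_add q]
  exact Nat.mul_lt_mul_of_pos_left ((show j + 64 = 2 + (j + 62) by omega) ▸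
    h1.trans_le (Nat.pow_le_pow_left hq _)) (by positivity)

theorem D_two_gamma {G V F : Type*} [Group G] [AddCommGroup V] [DistribMulAction G V] [Field F]
    [Finite F] (e : V ≃+ F) (h : ∀ g : G, ∃ (a : F) (σ : F ≃+* F), ∀ v, e (g • v) = a * σ (e v)) :
    D 2 ⊤ ≤ kerA G V := by
  choose a σ h using h
  have : Finite (F ≃+* F) := Finite.of_injective (fun f : F ≃+* F => (f : F → F))
    DFunLike.coe_injective
  have : IsCyclic (F ≃+* F) := isCyclic_of_surjective
    (FixedPoints.toAlgAutMulEquiv (F ≃+* F) F).symm (MulEquiv.surjective _)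
  have ha : ∀ g, a g ≠ 0 := fun g h0 => by
    have := h g (g⁻¹ • e.symm 1)
    simp [h0] at this
  let T : Subgroup G :=
    { carrier := {g | ∃ c : F, c ≠ 0 ∧ ∀ v, e (g • v) = c * e v}
      one_mem' := ⟨1, one_ne_zero, by simp⟩
      mul_mem' := by
        rintro x y ⟨c, hc, hx⟩ ⟨d, hd, hy⟩
        exact ⟨c * d, mul_ne_zero hc hd, fun v => by rw [mul_smul, hx, hy, mul_assoc]⟩
      inv_mem' := by
        rintro x ⟨c, hc, hx⟩
        exact ⟨c⁻¹, inv_ne_zero hc, fun v => by
          rw [eq_inv_mul_iff_mul_eq₀ hc, ← hx, smul_inv_smul]⟩ }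
  have key : ∀ (x y : G) (v : V), ∃ u, v = y • x • u ∧ ⁅x, y⁆ • v = x • y • u := fun x y v =>
    ⟨(y * x)⁻¹ • v, by simp [smul_smul], by
      simp [smul_smul, mul_assoc, commutatorElement_def]⟩
  have h1 : D 1 ⊤ ≤ T := commutator_le.2 fun x _ y _ =>
    ⟨a x * σ x (a y) / (a y * σ y (a x)), by simp [ha], fun v => by
      obtain ⟨u, rfl, h2⟩ := key x y v
      have h3 : σ x (σ y (e u)) = σ y (σ x (e u)) := DFunLike.congr_fun (mul_comm (σ x) (σ y)) _
      have := ha y
      have := (map_ne_zero (σ y)).2 (ha x)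
      rw [h2, h, h, h, h, map_mul, map_mul, h3]
      field_simp⟩
  refine commutator_le.2 fun x hx y hy => mem_kerA.2 fun v => e.injective ?_
  obtain ⟨c, -, hx⟩ := h1 hx
  obtain ⟨d, -, hy⟩ := h1 hy
  obtain ⟨u, rfl, h2⟩ := key x y v
  rw [h2, hx, hy, hy, hx, mul_left_comm]

section

variable {G : Type u} {V K : Type*} [Group G] [AddCommGroup V] [DistribMulAction G V] [Field K]
  [Module K V] [Finite G] [Group.IsSolvable G] [FaithfulSMul G V] [Finite V] [Nontrivial V]
  [Finite K] (S : PSetup G V K)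

theorem card_cent : Nat.card (centralizer (S.A : Set G)) = Nat.card S.A *
    (Nat.card S.W * (kerA G (Additive S.W)).relIndex (centralizer (S.A : Set G))) := by
  rw [← Core.card_inf_mul_relIndex (kerA G (Additive S.W)), ← Subgroup.ext fun _ => S.mem_F_iff,
    S.card_F]
  ring

include S in
theorem card_le : Nat.card G ≤ Nat.card K ^ 2 * finrank K V ^ 8 := by
  obtain ⟨v, hv⟩ := S.cr_W.hasBase_three
  have h1 := card_mul_index_le (C := Unit) (N := kerA G (Additive S.W))
    ⟨fun _ => v, fun _ _ _ _ => rfl, fun _ g h => mem_kerA.2 (hv g (congrFun h))⟩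
  rw [Nat.card_unique, one_mul, Nat.card_fun, Nat.card_eq_fintype_card (α := Fin 3),
    Fintype.card_fin] at h1
  have h2 := (Nat.le_of_dvd (Nat.pos_of_ne_zero index_ne_zero_of_finite)
    (relIndex_dvd_index_of_normal (kerA G (Additive S.W)) (centralizer (S.A : Set G)))).trans h1
  rw [← (centralizer (S.A : Set G)).index_mul_card, card_cent]
  calc _ ≤ Nat.card K * (Nat.card K * (finrank K V ^ 2 * (finrank K V ^ 2) ^ 3)) :=
        Nat.mul_le_mul (S.index_le.trans S.card_A_lt.le) (Nat.mul_le_mul S.card_A_lt.le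
          (Nat.mul_le_mul S.card_W_le (h2.trans (Nat.pow_le_pow_left S.card_W_le 3))))
    _ = _ := by ring

include S in
theorem D_five (htr : ∀ v w : V, v ≠ 0 → w ≠ 0 → ∃ g : G, g • v = w) : D 5 ⊤ ≤ kerA G V := by
  by_cases h1 : Nat.card S.W = 1
  · exact (D_anti (by norm_num) _).trans (S.D_top (D_one_le_A S h1) _)
  obtain ⟨t, h4, h5, h6, -, h8⟩ := params S h1
  have := Fintype.ofFinite K
  obtain ⟨p, _, ⟨j, hj⟩, hp, hK⟩ := FiniteField.card' K
  rw [PNat.mk_coe, ← Nat.card_eq_fintype_card] at hK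
  rcases Perm.huppert htr hp (n := j * finrank K V) (by
    rw [pow_mul, ← hK, Module.natCard_eq_pow_finrank (K := K)]) with
    ⟨F, _, _, e, he⟩ | ⟨_, _, -, -, -, -, -, h⟩
  · exact (D_anti (by norm_num) _).trans (D_two_gamma e he)
  have h9 := Nat.le_mul_of_pos_left (finrank K V) hj
  obtain rfl | rfl : t = 2 ∨ t = 4 := by
    by_contra h2
    obtain ⟨rfl, h3, rfl⟩ : t = 3 ∧ j * finrank K V = 4 ∧ p = 3 := by omega
    have := (h8 3 Nat.prime_three dvd_rfl).trans S.card_A_dvd
    obtain rfl : j = 1 := by nlinarith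
    rw [hK] at this
    omega
  all_goals exact S.D_top ((tlt 17 (by norm_num)).D_W S (by omega) (k := 3) (by norm_num)
    (by rw [h4]; decide)) _

theorem fix_quarter {g : G} (hg : g ∈ centralizer (S.A : Set G)) (h : g ≠ 1) :
    4 * finrank K (S.fix g) ≤ 3 * finrank K V := by
  by_cases h1 : g ∈ S.A
  · have : S.fix g = ⊥ := (Submodule.eq_bot_iff _).2 fun v hv => by
      by_contra h2
      exact h (S.eq_one_of_mem_A h1 h2 ((PSetup.mem_fix hg).1 hv))
    rw [this]
    simp
  obtain ⟨n, h2, -, h3⟩ := S.fix_le hg h1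
  by_contra h4
  nlinarith

theorem many_big (h : 4096 ≤ Nat.card S.W) : ManyK 9 (Fin 5) V (kerA G V) := by
  obtain ⟨t, h4, -, h6, h7, -⟩ := params S (by omega)
  have h1 := card_le S
  have h2 := Module.natCard_eq_pow_finrank (K := K) (V := V)
  suffices ∃ R : Set V, 4 * Nat.card G < R.ncard ∧
      ∀ v ∈ R, D 9 (MulAction.stabilizer G v) ≤ kerA G V by
    obtain ⟨R, h1, h2⟩ := this
    obtain ⟨τ, h3, h4⟩ := exists_inequiv R 4 h1
    exact ⟨τ, h3, fun i => h2 _ (h4 i)⟩
  have h0 : 0 < Nat.card G := Nat.card_pos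
  by_cases h3 : Nat.card S.W < 2 ^ 16
  · refine ⟨{0}ᶜ, ?_, fun v hv => S.D_stab ((tlt _ le_rfl).D_W S h3 (k := 8) (by norm_num)
      (by have := dt_cases (Nat.card S.W); omega)) hv _⟩
    have := num_big (k := finrank K V) (by nlinarith) h7
    have := Nat.mul_le_mul_left (Nat.card K ^ 2)
      (Nat.pow_le_pow_left (show finrank K V ≤ 4 * finrank K V + 4 by omega) 8)
    rw [Set.ncard_compl, Set.ncard_singleton]
    omega
  classical
  have := Fintype.ofFinite G
  have := Fintype.ofFinite V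
  let R : Set V := {v | ∀ g ∈ centralizer (S.A : Set G), g • v = v → g = 1}
  refine ⟨R, ?_, fun v hv g hg => hv g (S.D_one_le (D_mono le_top 1 (D_anti (by norm_num) _ hg)))
    (D_le _ _ hg) ▸ one_mem _⟩
  have h8 : 256 ≤ finrank K V := by nlinarith
  have h9 := num_big (k := finrank K V / 4) (by omega) h7
  have h10 := Nat.mul_le_mul_left (Nat.card K ^ 2)
    (Nat.pow_le_pow_left (show finrank K V ≤ 4 * (finrank K V / 4) + 4 by omega) 8)
  have h11 : Rᶜ.toFinset.card ≤ Nat.card G * Nat.card K ^ (finrank K V - finrank K V / 4) := by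
    refine (Finset.card_le_card (t := (Finset.univ.filter fun g : G =>
      g ∈ centralizer (S.A : Set G) ∧ g ≠ 1).biUnion fun g => (S.fix g : Set V).toFinset)
      fun v hv => ?_).trans ((Finset.card_biUnion_le_card_mul _ _ _ fun g hg => ?_).trans
        (Nat.mul_le_mul_right _ ?_))
    · simp only [R, Set.mem_toFinset, Set.mem_compl_iff, Set.mem_ofPred_eq, not_forall] at hv
      obtain ⟨g, h1, h2, h3⟩ := hv
      exact Finset.mem_biUnion.2 ⟨g, by simp [h1, h3],
        Set.mem_toFinset.2 ((PSetup.mem_fix h1).2 h2)⟩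
    · have := fix_quarter S (Finset.mem_filter.1 hg).2.1 (Finset.mem_filter.1 hg).2.2
      rw [← Set.ncard_eq_toFinset_card', ← Nat.card_coe_set_eq, SetLike.coe_sort_coe,
        Module.natCard_eq_pow_finrank (K := K)]
      exact Nat.pow_le_pow_right (by omega) (by omega)
    · exact Nat.card_eq_fintype_card (α := G) ▸ Finset.card_le_univ _
  rw [← Set.ncard_eq_toFinset_card'] at h11
  have h12 := Set.ncard_add_ncard_compl R
  rw [h2, ← Nat.sub_add_cancel (Nat.div_le_self (finrank K V) 4), pow_add] at h12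
  have h13 : 0 < Nat.card K ^ (finrank K V - finrank K V / 4) := by positivity
  nlinarith

end

theorem prim_many {G V : Type u} [Group G] [AddCommGroup V] [DistribMulAction G V] [Finite G]
    [Group.IsSolvable G] [FaithfulSMul G V] [Finite V] [Nontrivial V] (hP : Prim G V) :
    ManyK 9 (Fin 5) V (kerA G V) ∨ ManyK 8 (Fin 3) V (kerA G V) ∨ ManyK 5 (Fin 2) V (kerA G V) := by
  obtain ⟨K, _, _, _, ⟨S⟩⟩ := hP.exists_setup
  by_cases h : 4096 ≤ Nat.card S.W
  · exact Or.inl (many_big S h)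
  right
  by_cases htr : ∀ v w : V, v ≠ 0 → w ≠ 0 → ∃ g : G, g • v = w
  · obtain ⟨w, hw⟩ := exists_ne (0 : V)
    refine Or.inr ⟨![0, w], fun i j g h => ?_, fun _ => (D_mono le_top _).trans (D_five S htr)⟩
    fin_cases i <;> fin_cases j <;> simp_all [eq_comm (a := (0 : V)), smul_eq_zero_iff_eq]
  push Not at htr
  obtain ⟨v, w, hv, hw, h1⟩ := htr
  have h2 : ∀ g : G, g • w ≠ v := fun g h => h1 g⁻¹ (inv_smul_eq_iff.2 h.symm)
  refine Or.inl ⟨![0, v, w], fun i j g h => ?_, fun _ => (D_mono le_top _).trans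
    (S.D_top ((tlt _ le_rfl).D_W S (by omega) (k := 6) (by norm_num)
      (by have := dt_cases (Nat.card S.W); omega)) _)⟩
  fin_cases i <;> fin_cases j <;> simp_all [eq_comm (a := (0 : V)), smul_eq_zero_iff_eq]

theorem good_nine {G V : Type*} [Group G] [AddCommGroup V] [DistribMulAction G V] [Finite G]
    [Group.IsSolvable G] [Finite V] (h : CR G V) : Good G V 9 := by
  refine good_of_irr (P := fun _ => True) (fun _ _ _ _ => trivial) (fun V _ _ _ _ _ h1 => ?_) V
    trivial h
  obtain ⟨U, h0, hU, hp⟩ := exists_prim_blk (G := G) (V := V)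
  let _ := resAct (mInv_stabilizer (G := G) U)
  have : Nontrivial U := (AddSubgroup.nontrivial_iff_ne_bot U).2 h0
  rcases prim_many (hp.of_same exists_rng) with h | h | h
  · exact good_of_blk h1 h0 hU (distK_zero (dist_five _)) h.of_rng
  · exact good_of_blk h1 h0 hU (distK_three _) h.of_rng
  · exact good_of_blk h1 h0 hU (distK_two _) h.of_rng

end CfsgLib.DL9
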