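import Mathlib
import Cfsg.Agent.Lib.DL9.Gen
import Cfsg.Agent.Lib.Fgs.AutBound

/-!
Bounds for the order of groups of odd order acting on the symplectic section.
-/

set_option autoImplicit false
set_option linter.unusedSectionVars false

namespace CfsgLib.DL9

open Subgroup CfsgLib.Base Module Cfsg
open scoped Pointwise commutatorElement IsMulCommutative

universe u

theorem ne_neg_of_odd {V : Type*} [AddCommGroup V] [Finite V] (hV : Odd (Nat.card V)) {v : V}
    (hv : v ≠ 0) : v ≠ -v := fun h => hv (AddMonoid.addOrderOf_eq_one_iff.1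
  (Nat.eq_one_of_dvd_coprimes (Nat.coprime_two_left.2 hV) (addOrderOf_dvd_of_nsmul_eq_zero (by
    rw [two_nsmul]; exact eq_neg_iff_add_eq_zero.1 h)) (addOrderOf_dvd_natCard v)))

theorem smul_eq_of_pm {G V : Type*} [Group G] [Finite G] [AddCommGroup V] [DistribMulAction G V]
    (hG : Odd (Nat.card G)) {g : G} {a b : V} (ka : g • a = a ∨ g • a = -a ∨ g • a = b ∨ g • a = -b)
    (kb : g • b = a ∨ g • b = -a ∨ g • b = b ∨ g • b = -b) : g • a = a := by
  have inj : ∀ x y : V, g • x = g • y → x = y := fun x y h => MulAction.injective g h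
  refine smul_eq_of_pow (n := 4) ((Nat.coprime_two_left.2 hG).pow_left 2) ?_
  simp only [pow_succ, pow_zero, one_mul, mul_smul]
  rcases ka with ka | ka | ka | ka
  · simp only [ka]
  · simp only [ka, smul_neg, neg_neg]
  · rcases kb with kb | kb | kb | kb
    · simp only [ka, kb]
    · simp only [ka, kb, smul_neg, neg_neg]
    · obtain rfl := inj a b (ka.trans kb.symm)
      simp only [ka]
    · obtain rfl := inj a (-b) (by rw [smul_neg, kb, neg_neg, ka])
      simp only [kb, smul_neg, neg_neg]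
  · rcases kb with kb | kb | kb | kb
    · simp only [ka, kb, smul_neg, neg_neg]
    · simp only [ka, kb, smul_neg, neg_neg]
    · obtain rfl := inj a (-b) (by rw [smul_neg, kb, ka])
      simp only [kb, smul_neg]
    · obtain rfl := inj a b (ka.trans kb.symm)
      simp only [kb, smul_neg, neg_neg]

theorem odd_index {G V : Type*} [Group G] [Finite G] [Group.IsSolvable G] [AddCommGroup V]
    [Finite V] [DistribMulAction G V] (h : CR G V) (hG : Odd (Nat.card G)) (hV : Odd (Nat.card V))
    (h8 : 8 ≤ Nat.card V) : 8 * (kerA G V).index ≤ Nat.card V ^ 2 := by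
  obtain ⟨v, hv⟩ := h.hasBase_odd hG
  have hv' : ∀ g : G, g • v 0 = v 0 → g • v 1 = v 1 → g ∈ kerA G V := fun g h0 h1 =>
    mem_kerA.2 (hv g fun i => by fin_cases i <;> assumption)
  generalize v 0 = a, v 1 = b at hv'
  by_cases h1 : ∃ c : V, ∀ g : G, g • c = c → g ∈ kerA G V
  · obtain ⟨c, hc⟩ := h1
    have := card_mul_index_le (C := Unit) ⟨fun _ => c, fun _ _ _ _ => rfl, fun _ => hc⟩
    rw [Nat.card_unique, one_mul] at this
    nlinarith
  have ha : a ≠ 0 := fun h => h1 ⟨b, fun g hg => hv' g (by rw [h, smul_zero]) hg⟩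
  have hb : b ≠ 0 := fun h => h1 ⟨a, fun g hg => hv' g hg (by rw [h, smul_zero])⟩
  have h2 : a ≠ b := fun h => h1 ⟨a, fun g hg => hv' g hg (h ▸ hg)⟩
  have h3 : a ≠ -b := fun h => h1 ⟨b, fun g hg => hv' g (by rw [h, smul_neg, hg]) hg⟩
  have h4 := ne_neg_of_odd hV ha
  have h5 := ne_neg_of_odd hV hb
  have h6 : b ≠ -a := fun h => h3 (by rw [h, neg_neg])
  let τ : Bool × Bool × Bool → V × V := fun c =>
    cond c.1 (cond c.2.1 a (-a), cond c.2.2 b (-b)) (cond c.2.1 b (-b), cond c.2.2 a (-a))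
  have key : ∀ c c' (g : G), g • τ c = τ c' → g ∈ kerA G V := by
    rintro ⟨s, t, u⟩ ⟨s', t', u'⟩ g h
    have : (g • a = a ∨ g • a = -a ∨ g • a = b ∨ g • a = -b) ∧
        (g • b = a ∨ g • b = -a ∨ g • b = b ∨ g • b = -b) := by
      cases s <;> cases t <;> cases u <;> cases s' <;> cases t' <;> cases u' <;>
        simp only [τ, cond_true, cond_false, Prod.smul_mk, Prod.mk.injEq, smul_neg,
          neg_eq_iff_eq_neg, neg_neg] at h <;> simp only [h.1, h.2, true_or, or_true, and_self]
    exact hv' g (smul_eq_of_pm hG this.1 this.2) (smul_eq_of_pm hG (by tauto) (by tauto))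
  have := card_mul_index_le (C := Bool × Bool × Bool) ⟨τ, fun c c' g h => by
    have h7 := mem_kerA.1 (key c c' g h)
    rw [show g • τ c = τ c from Prod.ext (h7 _) (h7 _)] at h
    obtain ⟨s, t, u⟩ := c
    obtain ⟨s', t', u'⟩ := c'
    cases s <;> cases t <;> cases u <;> cases s' <;> cases t' <;> cases u' <;>
      simp only [τ, cond_true, cond_false, Prod.mk.injEq, neg_inj, h2, h3, h4, h5, h6, h2.symm,
        h3.symm, h4.symm, h5.symm, h6.symm, false_and, and_false] at h ⊢,
    fun c g => key c c g⟩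
  simpa [sq] using this

theorem card_dvd_of_pCore {X : Type*} [Group X] [Finite X] [Group.IsSolvable X] {r s j : ℕ}
    (hr : r.Prime) (hs : s.Prime) (h : Nat.card X ∣ r ^ j * s) (h1 : pCore r X = ⊥)
    (h2 : (s - 1).Coprime r) : Nat.card X ∣ s := by
  have := Core.fittingSubgroup_normal X
  have := Fact.mk hs
  have h3 : Nat.card (fittingSubgroup X) ∣ s := Nat.Coprime.dvd_of_dvd_mul_left
    (((Core.coprime_card_pPrimeCore r X).coprime_dvd_left (card_dvd_of_le
      (Core.fittingSubgroup_le_pPrimeCore_of_pCore_eq_bot hr h1))).pow_right j)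
    ((card_subgroup_dvd_card _).trans h)
  have := isCyclic_of_card_dvd_prime h3
  have h4 : (MulAut.conjNormal : X →* MulAut (fittingSubgroup X)).ker ≤ fittingSubgroup X :=
    fun g hg => Core.centralizer_fittingSubgroup_le fun n hn =>
      (mul_inv_eq_iff_eq_mul.1 (show g * n * g⁻¹ = n from congrArg Subtype.val
        (DFunLike.congr_fun hg (⟨n, hn⟩ : fittingSubgroup X)))).symm
  have h5 : (MulAut.conjNormal : X →* MulAut (fittingSubgroup X)).ker.index ∣ s - 1 := by
    rw [index_ker, ← Nat.totient_prime hs]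
    exact (card_subgroup_dvd_card _).trans ((IsCyclic.card_mulAut _).dvd.trans
      (Nat.totient_dvd_of_dvd h3))
  have h6 := Nat.eq_one_of_dvd_coprimes ((h2.pow_right j).mul_right
    ((Nat.coprime_self_sub_left hs.pos).2 (Nat.coprime_one_left s))) h5 ((index_dvd_card _).trans h)
  rwa [top_le_iff.1 ((index_eq_one.1 h6).ge.trans h4), card_top] at h3

theorem nsmul_eq_zero_of_cr {G V : Type*} [Group G] [AddCommGroup V] [Finite V]
    [DistribMulAction G V] (h : CR G V) {r k : ℕ} (hr : r.Prime) (hk : Nat.card V = r ^ k) (v : V) :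
    r • v = 0 := by
  obtain ⟨W, -, h1, h2⟩ := h (nsmulAddMonoidHom r : V →+ V).ker fun g u hu => by
    rw [AddMonoidHom.mem_ker, nsmulAddMonoidHom_apply] at hu ⊢
    rw [smul_comm, hu, smul_zero]
  obtain rfl : W = ⊥ := by
    by_contra h3
    have := Fact.mk hr
    obtain ⟨i, -, hi⟩ := (Nat.dvd_prime_pow hr).1 (hk ▸ AddSubgroup.card_addSubgroup_dvd_card W)
    obtain ⟨w, hw⟩ := exists_prime_addOrderOf_dvd_card' (G := W) r
      (hi ▸ dvd_pow_self r fun h => h3 (AddSubgroup.card_eq_one.1 (by rw [hi, h, pow_zero])))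
    have h4 : w = 0 := Subtype.ext (h1.le ⟨congrArg Subtype.val
      (hw ▸ addOrderOf_nsmul_eq_zero w : r • w = 0), w.2⟩)
    rw [h4, addOrderOf_zero] at hw
    exact hr.one_lt.ne hw
  rw [sup_bot_eq] at h2
  exact h2.ge (AddSubgroup.mem_top v)

variable {G : Type u} {V K : Type*} [Group G] [AddCommGroup V] [DistribMulAction G V] [Field K]
  [Module K V] [Finite G] [Group.IsSolvable G] [FaithfulSMul G V] (S : PSetup G V K)

theorem small_index {r k s j n : ℕ} (hr : r.Prime) (hs : s.Prime) (hk : Nat.card S.W = r ^ k)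
    (h2 : (s - 1).Coprime r) (hG : Odd (Nat.card G)) (h13 : r ^ k < 144) (h13' : r ≠ 13)
    (h : ∏ i ∈ Finset.range k, (r ^ k - r ^ i) ∣ 2 ^ n * (13 * (r ^ j * s))) :
    (kerA G (Additive S.W)).relIndex (centralizer (S.A : Set G)) ∣ s := by
  have := Fact.mk hr
  let B := centralizer (S.A : Set G)
  let π : B →* G ⧸ S.A := (QuotientGroup.mk' S.A).comp B.subtype
  let φ : B →* MulAut S.W := MulAut.conjNormal.comp π
  have hφ : φ.ker = (kerA G (Additive S.W)).subgroupOf B := Subgroup.ext fun g => by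
    rw [mem_subgroupOf, mem_kerA, MonoidHom.mem_ker, DFunLike.ext_iff]
    exact Iff.rfl
  have hF : ∀ g : B, g ∈ φ.ker ↔ (g : G) ∈ S.F := fun g => by
    rw [hφ, S.mem_F_iff]
    exact ⟨fun h => ⟨h, g.2⟩, fun h => h.1⟩
  rw [relIndex, ← hφ, index_ker]
  have h3 : Nat.card φ.range ∣ Nat.card G :=
    (index_ker φ ▸ index_dvd_card _).trans (card_subgroup_dvd_card B)
  have : Group.IsSolvable φ.range := Group.isSolvable_of_surjective φ.rangeRestrict_surjective
  refine card_dvd_of_pCore (j := j) hr hs (Nat.Coprime.dvd_of_dvd_mul_left (m := 13) ?_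
    (((Nat.coprime_two_right.2 (hG.of_dvd_nat h3)).pow_right n).dvd_of_dvd_mul_left
      ((card_subgroup_dvd_card _).trans ((Fgs.card_mulAut_dvd_of_elementary (fun x =>
        nsmul_eq_zero_of_cr S.cr_W hr hk (Additive.ofMul x)) hk).trans h)))) ?_ h2
  · have h4 : (13 : ℕ).Prime := by norm_num
    refine (h4.coprime_iff_not_dvd.2 fun h5 => ?_).symm
    have := Fact.mk h4
    obtain ⟨⟨_, g, rfl⟩, hg⟩ := exists_prime_orderOf_dvd_card' 13 h5
    obtain ⟨β, halt, hnd, hβ⟩ := S.exists_form
    obtain ⟨t, h6, h7, -⟩ := Perm.prime_le_of_alt halt hnd (φ g) (by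
      rintro ⟨_, x, hx, rfl⟩ ⟨_, y, hy, rfl⟩
      refine ((hβ _ _ (Normal.conj_mem inferInstance x hx g)
        (Normal.conj_mem inferInstance y hy g)).trans ?_).trans (hβ x y hx hy).symm
      refine congrArg S.ι (Subtype.ext ?_)
      change ⁅(g : G) * x * (g : G)⁻¹, g * y * (g : G)⁻¹⁆ = ⁅x, y⁆
      rw [← conjugate_commutatorElement, ← g.2 _
        (PSetup.commutator_le (commutator_mem_commutator hx hy)), mul_inv_cancel_right]) h4
      ((Subgroup.orderOf_coe _).trans hg) fun h => h13'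
        ((Nat.prime_dvd_prime_iff_eq h4 hr).1 (h4.dvd_of_dvd_pow (hk ▸ h))).symm
    nlinarith
  · let P := (pCore r φ.range).comap φ.rangeRestrict
    have h4 : IsPGroup r (P.map π) := by
      rintro ⟨_, x, hx, rfl⟩
      obtain ⟨i, hi⟩ := Core.isPGroup_pCore r _ ⟨_, hx⟩
      have h5 : x ^ r ^ i ∈ φ.ker := by
        rw [MonoidHom.mem_ker, map_pow]
        exact congrArg (fun y : pCore r φ.range => ((y : φ.range) : MulAut S.W)) hi
      refine ⟨i + k, Subtype.ext ?_⟩
      change π x ^ r ^ (i + k) = 1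
      rw [pow_add, pow_mul, ← map_pow, ← hk]
      exact congrArg Subtype.val
        (pow_card_eq_one' (x := (⟨_, mem_map_of_mem _ ((hF _).1 h5)⟩ : S.W)))
    have := h4.isNilpotent
    have := Core.isNilpotent_comap_of_ker_le_center π (fun a ha => mem_center_iff.2 fun b =>
      Subtype.ext (b.2 a ((QuotientGroup.eq_one_iff _).1 ha)).symm) (P.map π)
    have h5 := Core.le_fittingSubgroup (N := P) (Core.isNilpotent_of_le (le_comap_map π P))
    refine eq_bot_iff.2 fun y hy => ?_
    obtain ⟨x, rfl⟩ := φ.rangeRestrict_surjective y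
    exact Subtype.ext ((hF x).2 ((Core.map_fittingSubgroup_of_normal B).le
      (mem_map_of_mem _ (h5 hy))))

end CfsgLib.DL9
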