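import Mathlib
import Cfsg.Agent.Lib.DL9.Small

/-!
A vector with abelian stabilizer for groups of odd order in odd characteristic.
-/

set_option autoImplicit false
set_option linter.unusedSectionVars false

namespace CfsgLib.DL9

open Subgroup CfsgLib.Base Module
open scoped Pointwise commutatorElement IsMulCommutative

universe u

theorem num_seven (j : ℕ) : 3 * (3 * (j + 9)) ^ 6 ≤ 32 * 7 ^ (j + 9) := by
  induction j with
  | zero => norm_num
  | succ j ih =>
    have := Nat.pow_le_pow_left (show 9 * (3 * (j + 1 + 9)) ≤ 10 * (3 * (j + 9)) by omega) 6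
    rw [mul_pow 9, mul_pow 10] at this
    rw [show j + 1 + 9 = j + 9 + 1 by omega] at this ⊢
    rw [pow_succ 7]
    omega

theorem num_odd {q k t R : ℕ} (h1 : Odd t) (h2 : 2 ≤ t) (h3 : t ≤ 3 * k) (h4 : 1 < q) (h5 : q ≠ 15)
    (h6 : ∀ r, r.Prime → r ∣ t → 2 * r ∣ q - 1) (h7 : 8 * R ≤ (t ^ 2) ^ 2) (h8 : t = 3 → R ≤ 1)
    (h9 : t = 5 → R ≤ 3) (h10 : t = 9 → R ≤ 5) : 7 ≤ q ∧ 3 * (t ^ 2 * R) ≤ 4 * q ^ k := by
  have hq : 7 ≤ q := by
    obtain ⟨r, hr, h⟩ := Nat.exists_prime_and_dvd (show t ≠ 1 by omega)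
    have := Nat.le_of_dvd (by omega) (h6 r hr h)
    have := hr.two_le
    have : r ≠ 2 := by
      rintro rfl
      exact h1.not_two_dvd_nat h
    omega
  refine ⟨hq, ?_⟩
  have hb : ∀ q₀ k₀, q₀ ≤ q → k₀ ≤ k → q₀ ^ k₀ ≤ q ^ k := fun q₀ k₀ h h' =>
    (Nat.pow_le_pow_left h _).trans (Nat.pow_le_pow_right (by omega) h')
  by_cases h : 25 ≤ t
  · obtain ⟨j, rfl⟩ := Nat.exists_eq_add_of_le' (show 9 ≤ k by omega)
    have := num_seven j
    have := Nat.pow_le_pow_left h3 6
    have := hb 7 _ hq le_rfl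
    have := Nat.mul_le_mul_left (t ^ 2) h7
    nlinarith
  obtain ⟨c, hc⟩ := h1
  obtain rfl | rfl | rfl | rfl | rfl | rfl | rfl | rfl | rfl | rfl | rfl : t = 3 ∨ t = 5 ∨ t = 7 ∨
    t = 9 ∨ t = 11 ∨ t = 13 ∨ t = 15 ∨ t = 17 ∨ t = 19 ∨ t = 21 ∨ t = 23 := by omega
  · have := hb 7 1 hq (by omega)
    omega
  · have := h6 5 (by norm_num) (by norm_num)
    have := hb 11 2 (by omega) (by omega)
    omega
  · have := h6 7 (by norm_num) (by norm_num)
    have := hb 29 3 (by omega) (by omega)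
    omega
  · have := hb 7 3 hq (by omega)
    omega
  · have := h6 11 (by norm_num) (by norm_num)
    have := hb 23 4 (by omega) (by omega)
    omega
  · have := h6 13 (by norm_num) (by norm_num)
    have := hb 27 5 (by omega) (by omega)
    omega
  · have := h6 3 (by norm_num) (by norm_num)
    have := h6 5 (by norm_num) (by norm_num)
    have := hb 31 5 (by omega) (by omega)
    omega
  · have := h6 17 (by norm_num) (by norm_num)
    have := hb 35 6 (by omega) (by omega)
    omega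
  · have := h6 19 (by norm_num) (by norm_num)
    have := hb 39 7 (by omega) (by omega)
    omega
  · have := h6 7 (by norm_num) (by norm_num)
    have := hb 15 7 (by omega) (by omega)
    omega
  · have := h6 23 (by norm_num) (by norm_num)
    have := hb 47 8 (by omega) (by omega)
    omega

theorem sum_pow_le {A : Type*} [Fintype A] {q d D k : ℕ} (a : A → ℕ) (hq : 2 * Fintype.card A ≤ q)
    (h0 : 0 < q) (h1 : ∀ x, a x ≤ D) (h2 : ∀ x y, x ≠ y → a x + a y ≤ d) (h3 : D + k = d) :
    2 * ∑ x, q ^ a x ≤ 2 * q ^ D + q ^ (k + 1) := by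
  classical
  by_cases h : ∃ x, a x = D
  · obtain ⟨x, hx⟩ := h
    have := Finset.sum_le_card_nsmul (Finset.univ.erase x) (fun y => q ^ a y) (q ^ k) fun y hy =>
      Nat.pow_le_pow_right h0 (by have := h2 y x (Finset.mem_erase.1 hy).1; omega)
    have h4 := Nat.mul_le_mul_right (q ^ k) (Finset.card_le_univ (Finset.univ.erase x))
    rw [← Finset.add_sum_erase _ _ (Finset.mem_univ x), hx, pow_succ]
    rw [smul_eq_mul] at this
    nlinarith [Nat.mul_le_mul_right (q ^ k) hq]
  · have := Finset.sum_le_card_nsmul Finset.univ (fun y => q * q ^ a y) (q ^ D) fun y _ => by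
      rw [← pow_succ']
      exact Nat.pow_le_pow_right h0 (lt_of_le_of_ne (h1 y) fun h' => h ⟨y, h'⟩)
    rw [← Finset.mul_sum, smul_eq_mul, Finset.card_univ] at this
    have h4 := Nat.le_of_mul_le_mul_left
      (this.trans (Nat.mul_le_mul_right _ (show _ ≤ q by omega))) h0
    omega

section

variable {G : Type u} {V K : Type*} [Group G] [AddCommGroup V] [DistribMulAction G V] [Field K]
  [Module K V] [Finite G] [Group.IsSolvable G] [FaithfulSMul G V] [Finite V] [Nontrivial V]
  [Finite K] (S : PSetup G V K)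

theorem two_mul_dvd (hG : Odd (Nat.card G)) (hK : Odd (Nat.card K)) :
    2 * Nat.card S.A ∣ Nat.card K - 1 :=
  (Nat.coprime_two_left.2 (hG.of_dvd_nat (card_subgroup_dvd_card _))).mul_dvd_of_dvd_of_dvd
    (Nat.Odd.sub_odd hK odd_one).two_dvd S.card_A_dvd

theorem card_coset_fix (hG : Odd (Nat.card G)) (hK : Odd (Nat.card K)) {g : G}
    (hg : g ∈ centralizer (S.A : Set G)) (h : g ∉ S.A) :
    2 * {v : V | ∃ x : G, (g : G ⧸ S.A) = x ∧ x • v = v}.ncard ≤
      2 * Nat.card K ^ (2 * finrank K V / 3) +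
        Nat.card K ^ (finrank K V - 2 * finrank K V / 3 + 1) := by
  classical
  have := Fintype.ofFinite S.A
  have := Fintype.ofFinite V
  have h0 := Finite.one_lt_card (α := K)
  have h1 : ∀ a : S.A, g * a ∈ centralizer (S.A : Set G) := fun a =>
    mul_mem hg (le_centralizer _ a.2)
  refine le_trans (Nat.mul_le_mul_left 2 ?_) (sum_pow_le (d := finrank K V)
    (fun a : S.A => finrank K (S.fix (g * a))) ?_ (by omega) (fun a => ?_) (fun a b hab => ?_)
    (by omega))
  · rw [Set.ncard_eq_toFinset_card']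
    refine (Finset.card_le_card (t := Finset.univ.biUnion fun a : S.A =>
      (S.fix (g * a) : Set V).toFinset) fun v hv => ?_).trans
      (Finset.card_biUnion_le.trans (Finset.sum_le_sum fun a _ => ?_))
    · obtain ⟨x, h2, h3⟩ := Set.mem_toFinset.1 hv
      exact Finset.mem_biUnion.2 ⟨⟨_, QuotientGroup.eq.1 h2⟩, Finset.mem_univ _,
        Set.mem_toFinset.2 ((PSetup.mem_fix (h1 _)).2 (by simpa using h3))⟩
    · rw [← Set.ncard_eq_toFinset_card', ← Nat.card_coe_set_eq, SetLike.coe_sort_coe,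
        Module.natCard_eq_pow_finrank (K := K)]
  · have := Nat.le_of_dvd (by omega) (two_mul_dvd S hG hK)
    rw [← Nat.card_eq_fintype_card]
    omega
  · obtain ⟨n, h2, h3, h4⟩ := S.fix_le (h1 a) fun h' => h ((S.A.mul_mem_cancel_right a.2).1 h')
    obtain ⟨c, hc⟩ := hG.of_dvd_nat h3
    obtain ⟨n, rfl⟩ := Nat.exists_eq_add_of_le' (show 3 ≤ n by omega)
    have := Submodule.finrank_le (S.fix (g * a))
    rw [Nat.le_div_iff_mul_le (by norm_num)]
    by_contra h5
    nlinarith
  · rw [← Submodule.finrank_sup_add_finrank_inf_eq,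
      show S.fix (g * a) ⊓ S.fix (g * b) = ⊥ from (Submodule.eq_bot_iff _).2 fun v hv => ?_]
    · simpa using Submodule.finrank_le _
    by_contra h2
    have h3 := ((PSetup.mem_fix (h1 a)).1 hv.1).trans ((PSetup.mem_fix (h1 b)).1 hv.2).symm
    rw [mul_smul, mul_smul, smul_left_cancel_iff, ← inv_smul_eq_iff, smul_smul] at h3
    exact hab (Subtype.ext (inv_mul_eq_one.1 (S.eq_one_of_mem_A
      (S.A.mul_mem (S.A.inv_mem b.2) a.2) h2 h3)).symm)

include S in
theorem exists_odd (hG : Odd (Nat.card G)) (hV : Odd (Nat.card V)) :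
    ∃ v : V, v ≠ 0 ∧ D 1 (MulAction.stabilizer G v) ≤ kerA G V := by
  by_cases h1 : Nat.card S.W = 1
  · obtain ⟨v, hv⟩ := exists_ne (0 : V)
    exact ⟨v, hv, S.D_stab (D_one_le_A S h1) hv _⟩
  obtain ⟨t, h4, h5, h6, h7, h8⟩ := params S h1
  have h2 := Module.natCard_eq_pow_finrank (K := K) (V := V)
  have hK : Odd (Nat.card K) := hV.of_dvd_nat (h2 ▸ dvd_pow_self _ (by omega))
  have hW : Odd (Nat.card S.W) := hG.of_dvd_nat
    ((Dvd.intro _ S.card_F.symm).trans (card_subgroup_dvd_card _))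
  have ht : Odd t := hW.of_dvd_nat (h4 ▸ dvd_pow_self _ two_ne_zero)
  suffices ∃ v : V, ∀ g ∈ centralizer (S.A : Set G), g • v = v → g ∈ S.A by
    obtain ⟨v, hv⟩ := this
    have h3 : v ≠ 0 := by
      rintro rfl
      have := card_le_of_le ((fun g hg => hv g hg.2 (smul_zero g)) : S.F ≤ S.A)
      have : 0 < Nat.card S.A := Nat.card_pos
      rw [S.card_F, h4] at *
      nlinarith [Nat.mul_le_mul_right (Nat.card S.A) (Nat.pow_le_pow_left h5 2)]
    exact ⟨v, h3, fun g hg => S.eq_one_of_mem_A (hv g (S.D_one_le (D_mono le_top 1 hg))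
      (D_le _ _ hg)) h3 (D_le 1 _ hg) ▸ one_mem _⟩
  by_contra! hc
  classical
  have := Fintype.ofFinite (G ⧸ S.A)
  have := Fintype.ofFinite V
  let B := (centralizer (S.A : Set G)).map (QuotientGroup.mk' S.A)
  have h9 := Finset.card_mul_le_card_mul (s := (Finset.univ : Finset V))
    (t := (B : Set (G ⧸ S.A)).toFinset.erase 1) (m := 2) (n := (2 * Nat.card K ^
      (2 * finrank K V / 3) + Nat.card K ^ (finrank K V - 2 * finrank K V / 3 + 1)) / 2)
    (fun v (y : G ⧸ S.A) => ∃ x : G, y = x ∧ x • v = v) (fun v _ => ?_) fun y hy => ?_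
  rotate_left
  · obtain ⟨g, k1, k2, k3⟩ := hc v
    have k4 : (g : G ⧸ S.A) ≠ 1 := fun h => k3 ((QuotientGroup.eq_one_iff g).1 h)
    refine Finset.one_lt_card.2 ⟨g, ?_, (g⁻¹ : G), ?_, fun h => k3 (mem_of_pow_mem
      (Nat.coprime_two_left.2 hG) ?_ (by rw [pow_card_eq_one']; exact one_mem _))⟩
    · exact Finset.mem_filter.2 ⟨Finset.mem_erase.2 ⟨k4, Set.mem_toFinset.2 (mem_map_of_mem _ k1)⟩,
        g, rfl, k2⟩
    · exact Finset.mem_filter.2 ⟨Finset.mem_erase.2 ⟨inv_ne_one.2 k4, Set.mem_toFinset.2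
        (mem_map_of_mem _ (inv_mem k1))⟩, g⁻¹, rfl, inv_smul_eq_iff.2 k2.symm⟩
    · simpa [sq] using QuotientGroup.eq.1 h.symm
  · obtain ⟨k1, k2⟩ := Finset.mem_erase.1 hy
    obtain ⟨g, hg, rfl⟩ := Set.mem_toFinset.1 k2
    have := card_coset_fix S hG hK hg fun h => k1 ((QuotientGroup.eq_one_iff g).2 h)
    rw [Set.ncard_eq_toFinset_card', Set.toFinset_ofPred] at this
    exact (Nat.le_div_iff_mul_le two_pos).2 (mul_comm 2 _ ▸ this)
  have h10 : Nat.card B = t ^ 2 * (kerA G (Additive S.W)).relIndex (centralizer (S.A : Set G)) := by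
    have := Core.card_map_mk'_mul_card_inf (centralizer (S.A : Set G)) S.A
    rw [inf_eq_right.2 (le_centralizer _), card_cent, mul_comm, h4] at this
    exact Nat.eq_of_mul_eq_mul_left Nat.card_pos this
  have h11 := fun {r k s j n} hr hs hk h2 => small_index S (r := r) (k := k) (s := s) (j := j)
    (n := n) hr hs hk h2 hG
  have h12 := odd_index S.cr_W hG hW (show 8 ≤ Nat.card S.W by
    obtain ⟨c, hc⟩ := ht
    have := Nat.pow_le_pow_left (show 3 ≤ t by omega) 2
    omega)
  have h13 := Nat.le_of_dvd (Nat.pos_of_ne_zero index_ne_zero_of_finite)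
    (relIndex_dvd_index_of_normal (kerA G (Additive S.W)) (centralizer (S.A : Set G)))
  have h14 : Odd ((kerA G (Additive S.W)).relIndex (centralizer (S.A : Set G))) :=
    hG.of_dvd_nat ((index_dvd_card _).trans (card_subgroup_dvd_card _))
  have h15 : t = 3 → (kerA G (Additive S.W)).relIndex (centralizer (S.A : Set G)) ≤ 1 := by
    rintro rfl
    have := Nat.le_of_dvd two_pos (h11 (j := 1) (n := 3) Nat.prime_three Nat.prime_two h4
      (by norm_num) (by norm_num) (by norm_num) (by decide))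
    obtain ⟨c, hc⟩ := h14
    omega
  obtain ⟨hq, h16⟩ := num_odd (k := finrank K V - 2 * finrank K V / 3) ht h5 (by omega)
    (show 1 < Nat.card K by omega) (fun h => by
      have := Fintype.ofFinite K
      obtain ⟨p, _, j, hp, hK⟩ := FiniteField.card' K
      rw [← Nat.card_eq_fintype_card, h] at hK
      have h7 := (Nat.prime_dvd_prime_iff_eq Nat.prime_five hp).1
        (Nat.prime_five.dvd_of_dvd_pow (hK ▸ (by norm_num : 5 ∣ 15)))
      have h8 := (Nat.prime_dvd_prime_iff_eq Nat.prime_three hp).1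
        (Nat.prime_three.dvd_of_dvd_pow (hK ▸ (by norm_num : 3 ∣ 15)))
      omega)
    (fun r hr h => (Nat.mul_dvd_mul_left 2 (h8 r hr h)).trans (two_mul_dvd S hG hK))
    ((Nat.mul_le_mul_left 8 h13).trans (h12.trans_eq (congrArg (· ^ 2) h4))) h15
    (by
      rintro rfl
      exact Nat.le_of_dvd three_pos (h11 (j := 1) (n := 5) Nat.prime_five Nat.prime_three h4
        (by norm_num) (by norm_num) (by norm_num) (by decide)))
    (by
      rintro rfl
      exact Nat.le_of_dvd (by norm_num) (h11 (k := 4) (j := 6) (n := 9) Nat.prime_three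
        Nat.prime_five h4 (by norm_num) (by norm_num) (by norm_num) (by decide)))
  rw [Finset.card_erase_of_mem (Set.mem_toFinset.2 B.one_mem), ← Set.ncard_eq_toFinset_card',
    ← Nat.card_coe_set_eq, SetLike.coe_sort_coe, Finset.card_univ, ← Nat.card_eq_fintype_card,
    h2] at h9
  rw [← h10] at h16
  obtain ⟨N, hN⟩ : ∃ N, Nat.card B = N + 1 := ⟨_, (Nat.succ_pred_eq_of_pos Nat.card_pos).symm⟩
  rw [hN, Nat.add_sub_cancel] at h9
  have h17 := (Nat.mul_le_mul_right 2 h9).trans
    (mul_assoc N _ _ ▸ Nat.mul_le_mul_left N (Nat.div_mul_le_self _ 2))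
  by_cases hd : finrank K V = 4
  · obtain rfl : t = 3 := by
      obtain ⟨c, hc⟩ := ht
      omega
    have := h15 rfl
    have := Nat.mul_le_mul_right (2 * Nat.card K ^ 2 + Nat.card K ^ 3) (show N ≤ 8 by omega)
    rw [hd] at h17
    norm_num at h17
    nlinarith [Nat.mul_le_mul_right (Nat.card K ^ 3) hq, Nat.mul_le_mul_right (Nat.card K ^ 2) hq,
      Nat.pow_pos (n := 2) (show 0 < Nat.card K by omega)]
  have h18 : 3 ≤ t := by
    obtain ⟨c, hc⟩ := ht
    omega
  have h19 := Nat.mul_le_mul_left N (Nat.pow_le_pow_right (show 0 < Nat.card K by omega)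
    (show finrank K V - 2 * finrank K V / 3 + 1 ≤ 2 * finrank K V / 3 by omega))
  have h20 : Nat.card K ^ finrank K V = Nat.card K ^ (finrank K V - 2 * finrank K V / 3) *
      Nat.card K ^ (2 * finrank K V / 3) := by
    rw [← pow_add, Nat.sub_add_cancel (by omega)]
  have h21 := Nat.pow_pos (n := 2 * finrank K V / 3) (show 0 < Nat.card K by omega)
  have h22 := Nat.mul_le_mul_right (Nat.card K ^ (2 * finrank K V / 3)) h16
  rw [hN] at h22
  nlinarith

end

theorem good_odd {G V : Type*} [Group G] [AddCommGroup V] [DistribMulAction G V] [Finite G]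
    [Group.IsSolvable G] [Finite V] (h : CR G V) (hG : Odd (Nat.card G)) (hV : Odd (Nat.card V)) :
    Good G V 1 := by
  refine good_of_irr (P := Odd) (fun _ _ h h' => h'.of_dvd_nat h) (fun V _ _ _ _ hV h1 => ?_) V hV h
  obtain ⟨U, h0, hU, hp⟩ := exists_prim_blk (G := G) (V := V)
  let _ := resAct (mInv_stabilizer (G := G) U)
  have : Nontrivial U := (AddSubgroup.nontrivial_iff_ne_bot U).2 h0
  have h2 := hV.of_dvd_nat (AddSubgroup.card_addSubgroup_dvd_card U)
  have h3 := hG.of_dvd_nat ((card_rng_dvd (G := MulAction.stabilizer G U) (V := U)).trans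
    (card_subgroup_dvd_card _))
  obtain ⟨K, _, _, _, ⟨S⟩⟩ := (hp.of_same exists_rng).exists_setup
  obtain ⟨v, hv, h4⟩ := exists_odd S h3 h2
  have h5 : ∀ (l : rng (MulAction.stabilizer G U) U) (w : U), w ≠ 0 → l • w ≠ -w := fun l w hw h =>
    ne_neg_of_odd h2 hw ((smul_eq_of_pm h3 (b := w) (by simp [h]) (by simp [h])).symm.trans h)
  refine good_of_blk (a := 0) h1 h0 hU (distK_zero (dist_two hG _))
    (ManyK.of_rng ⟨![v, -v], fun i j l h => ?_, fun i => (D_mono (fun g hg => ?_) 1).trans h4⟩)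
  · fin_cases i <;> fin_cases j
    · rfl
    · exact absurd h (h5 l v hv)
    · exact absurd (h.trans (neg_neg v).symm) (h5 l (-v) (neg_ne_zero.2 hv))
    · rfl
  · fin_cases i
    · exact hg
    · exact neg_injective ((smul_neg g v).symm.trans hg)

end CfsgLib.DL9
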